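import Groth.Agent.GRingLib.FiniteType
import Groth.Agent.S2047
import Groth.Agent.S0600
import Groth.Agent.S4713
import Mathlib.AlgebraicGeometry.Noetherian

/-!
# G-schemes through their local rings
-/

set_option autoImplicit false
set_option linter.style.haveILetI false
set_option maxHeartbeats 800000

universe u

open TensorProduct IsLocalRing GeomRedFibLib CAlg AlgebraicGeometry TopologicalSpace

namespace GSchemeLib

/-- Having a regular completion map is invariant under isomorphisms of local rings. -/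
theorem isRegularHom_cpl_of_ringEquiv {R S : Type u} [CommRing R] [IsLocalRing R] [IsNoetherianRing R] [CommRing S]
    [IsLocalRing S] (e : R ≃+* S) (h : IsRegularHom R (EGA4.Cpl R)) : IsRegularHom S (EGA4.Cpl S) := by
  letI := e.toRingHom.toAlgebra
  have hs : Function.Surjective (algebraMap R S) := e.surjective
  obtain ⟨E⟩ := exists_cplSurjEquiv R S hs
  haveI := h.1
  have hs' := RingHom.surjectiveOnStalks_of_surjective hs
  exact ⟨flat_baseChange E, fun Q _ ↦
    ⟨fiber_baseChange E _ Q (fun R _ ↦ IsNoetherianRing R)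
        (fun R _ _ _ σ h ↦ @isNoetherianRing_of_ringEquiv R _ _ _ σ h) hs' rfl (h.2 (Q.comap (algebraMap R S))).1,
      (isGeometricallyRegular_fiber_iff E _ Q hs' rfl).mpr (h.2 (Q.comap (algebraMap R S))).2⟩⟩

/-- A local ring with regular completion map is a G-ring. -/
theorem isGRing_of_isRegularHom_cpl (R : Type u) [CommRing R] [IsLocalRing R] [IsNoetherianRing R]
    (h : IsRegularHom R (EGA4.Cpl R)) : IsGRing R := by
  refine Groth.Agent.S2047.result.2 fun m hm ↦ ?_
  have hunit : ∀ x ∈ m.primeCompl, IsUnit x := fun x hx ↦ by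
    by_contra hu
    exact hx (eq_maximalIdeal hm ▸ (mem_maximalIdeal x).2 hu)
  exact isRegularHom_cpl_of_ringEquiv (IsLocalization.atUnits R m.primeCompl hunit).toRingEquiv h

variable {X : Scheme.{u}}

/-- The condition at a point. -/
def GAt (X : Scheme.{u}) (x : X) : Prop := IsRegularHom (X.presheaf.stalk x) (EGA4.Cpl (X.presheaf.stalk x))

/-- An affine open with G-ring of sections has regular completion maps at its points. -/
theorem gAt_of_isGRing {U : X.Opens} (hU : IsAffineOpen U) (hG : IsGRing Γ(X, U)) (x : X) (hx : x ∈ U) :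
    GAt X x := by
  letI := TopCat.Presheaf.algebra_section_stalk X.presheaf ⟨x, hx⟩
  haveI := hU.isLocalization_stalk ⟨x, hx⟩
  exact Groth.Agent.S0600.result _
    (GRingLib.isGRing_of_isLocalization Γ(X, U) (X.presheaf.stalk x) (hU.primeIdealOf ⟨x, hx⟩).asIdeal.primeCompl hG) _

/-- A Noetherian affine open with regular completion maps at its points has a G-ring of sections. -/
theorem isGRing_of_gAt [IsLocallyNoetherian X] {U : X.Opens} (hU : IsAffineOpen U)
    (h : ∀ x : X, x ∈ U → GAt X x) : IsGRing Γ(X, U) := by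
  haveI : IsNoetherianRing Γ(X, U) := IsLocallyNoetherian.component_noetherian ⟨U, hU⟩
  refine Groth.Agent.S2047.result.2 fun m hm ↦ ?_
  let y : PrimeSpectrum Γ(X, U) := ⟨m, hm.isPrime⟩
  have hy : hU.fromSpec y ∈ U := hU.range_fromSpec.le ⟨y, rfl⟩
  letI := TopCat.Presheaf.algebra_section_stalk X.presheaf ⟨hU.fromSpec y, hy⟩
  haveI : IsLocalization.AtPrime (X.presheaf.stalk (hU.fromSpec y)) m := hU.isLocalization_stalk' y hy
  exact isRegularHom_cpl_of_ringEquiv
    (IsLocalization.algEquiv m.primeCompl (X.presheaf.stalk (hU.fromSpec y)) (Localization.AtPrime m)).toRingEquiv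
    (h _ hy)

/-- The condition passes to generalisations. -/
theorem gAt_of_specializes [IsLocallyNoetherian X] {x z : X} (hxz : x ⤳ z) (hz : GAt X z) : GAt X x := by
  obtain ⟨_, ⟨⟨U, hU, rfl⟩, hzU, -⟩⟩ :=
    X.isBasis_affineOpens.exists_subset_of_mem_open (Set.mem_univ z) isOpen_univ
  have hxU : x ∈ U := hxz.mem_open U.isOpen hzU
  letI := TopCat.Presheaf.algebra_section_stalk X.presheaf ⟨x, hxU⟩
  haveI := hU.isLocalization_stalk ⟨x, hxU⟩
  let f := (X.presheaf.stalkSpecializes hxz).hom
  have hf : f.SurjectiveOnStalks := by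
    have hcomp : f.comp (X.presheaf.germ U z hzU).hom = algebraMap Γ(X, U) (X.presheaf.stalk x) := by
      rw [← CommRingCat.hom_comp, TopCat.Presheaf.germ_stalkSpecializes]
      rfl
    refine RingHom.SurjectiveOnStalks.of_comp (f := (X.presheaf.germ U z hzU).hom) ?_
    rw [hcomp]
    exact RingHom.surjectiveOnStalks_of_isLocalization (hU.primeIdealOf ⟨x, hxU⟩).asIdeal.primeCompl _
  exact Groth.Agent.S0600.result _
    (GRingLib.isGRing_of_surjectiveOnStalks _ _ f hf (isGRing_of_isRegularHom_cpl _ hz)) _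

/-- On a locally Noetherian scheme the closed points suffice. -/
theorem gAt_of_closedPoints [IsLocallyNoetherian X] (h : ∀ z : X, IsClosed ({z} : Set X) → GAt X z) (x : X) :
    GAt X x := by
  obtain ⟨z, hz, hzc⟩ := Groth.Agent.S4713.result X (closure {x}) isClosed_closure ⟨x, subset_closure rfl⟩
  exact gAt_of_specializes (specializes_iff_mem_closure.2 hz) (h z hzc)

/-- A scheme covered by spectra of G-rings is locally Noetherian and has all completion maps regular. -/
theorem isLocallyNoetherian_of_gScheme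
    (h : ∀ x : X, ∃ U : X.Opens, x ∈ U ∧ IsAffineOpen U ∧ IsGRing Γ(X, U)) :
    IsLocallyNoetherian X ∧ ∀ x : X, GAt X x := by
  choose U hxU hU hG using h
  refine ⟨@isLocallyNoetherian_of_affine_cover X X (fun x ↦ ⟨U x, hU x⟩)
    (eq_top_iff.2 fun x _ ↦ Opens.mem_iSup.2 ⟨x, hxU x⟩) fun x ↦ (hG x).1,
    fun x ↦ gAt_of_isGRing (hU x) (hG x) x (hxU x)⟩

end GSchemeLib
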